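import Cfsg.Prelude.Def_Sz
import Mathlib

/-!
The natural module of the Suzuki groups: `star4` is multiplicative on `Sp₄`, every element of
`Sz` satisfies the defining equation, and an element fixing a non-zero vector has order dividing `4`.
-/

set_option autoImplicit false

namespace Cfsg.Agent.Lib.SzNatural

open Matrix Polynomial

/-- The `2 × 2` minor with rows `k, l` and columns `i, j`. -/
def minor {R : Type*} [CommRing R] (g : Matrix (Fin 4) (Fin 4) R) (k l i j : Fin 4) : R :=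
  g k i * g l j - g l i * g k j

theorem star4_apply {R : Type*} [CommRing R] (g : Matrix (Fin 4) (Fin 4) R) (p r : Fin 4) :
    Cfsg.Lie.star4 g p r =
      minor g (Cfsg.Lie.pairOf p).1 (Cfsg.Lie.pairOf p).2 (Cfsg.Lie.pairOf r).1 (Cfsg.Lie.pairOf r).2 := rfl

/-- The sum of the six principal `2 × 2` minors. -/
def e2 {R : Type*} [CommRing R] (g : Matrix (Fin 4) (Fin 4) R) : R :=
  minor g 0 1 0 1 + minor g 0 2 0 2 + minor g 1 3 1 3 + minor g 2 3 2 3 + minor g 0 3 0 3 + minor g 1 2 1 2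

theorem det_smul_one_add {R : Type*} [CommRing R] (x : R) (A : Matrix (Fin 4) (Fin 4) R) :
    (x • (1 : Matrix (Fin 4) (Fin 4) R) + A).det =
      x ^ 4 + A.trace * x ^ 3 + e2 A * x ^ 2 + A.adjugate.trace * x + A.det := by
  simp only [Matrix.det_succ_row_zero, Fin.sum_univ_succ, Matrix.trace, Matrix.diag,
    Matrix.adjugate_fin_succ_eq_det_submatrix, e2, minor, Matrix.add_apply, Matrix.smul_apply,
    Matrix.submatrix_apply, smul_eq_mul]
  simp [Fin.succAbove, Matrix.one_apply]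
  ring

section Sp

variable {F : Type*} [Field F]

theorem col_eq {g : GL (Fin 4) F} (hg : g ∈ Cfsg.Lie.Sp4 F) (i j : Fin 4) :
    (g : Matrix (Fin 4) (Fin 4) F) 0 i * (g : Matrix (Fin 4) (Fin 4) F) 3 j +
      (g : Matrix (Fin 4) (Fin 4) F) 1 i * (g : Matrix (Fin 4) (Fin 4) F) 2 j +
      (g : Matrix (Fin 4) (Fin 4) F) 2 i * (g : Matrix (Fin 4) (Fin 4) F) 1 j +
      (g : Matrix (Fin 4) (Fin 4) F) 3 i * (g : Matrix (Fin 4) (Fin 4) F) 0 j =
    if j = Fin.rev i then 1 else 0 := by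
  have h := hg (Pi.single i 1) (Pi.single j 1)
  simp only [Cfsg.Lie.altForm4, Units.coeHom_apply, Matrix.mulVec_single_one, Matrix.col_apply] at h
  rw [h]
  fin_cases i <;> fin_cases j <;> simp +decide

/-- The symplectic adjoint. -/
def adjM (g : Matrix (Fin 4) (Fin 4) F) : Matrix (Fin 4) (Fin 4) F :=
  Matrix.of fun i j => g (Fin.rev j) (Fin.rev i)

theorem adjM_mul {g : GL (Fin 4) F} (hg : g ∈ Cfsg.Lie.Sp4 F) :
    adjM (g : Matrix (Fin 4) (Fin 4) F) * (g : Matrix (Fin 4) (Fin 4) F) = 1 := by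
  ext i j
  have h := col_eq hg (Fin.rev i) j
  rw [Fin.rev_rev] at h
  rw [Matrix.mul_apply, Fin.sum_univ_four, Matrix.one_apply]
  have hh : (if i = j then (1 : F) else 0) = if j = i then 1 else 0 := by simp only [eq_comm]
  rw [hh, ← h]
  simp only [adjM, Matrix.of_apply]
  rw [show Fin.rev (0 : Fin 4) = 3 from rfl, show Fin.rev (1 : Fin 4) = 2 from rfl,
    show Fin.rev (2 : Fin 4) = 1 from rfl, show Fin.rev (3 : Fin 4) = 0 from rfl]
  ring

theorem row_eq {g : GL (Fin 4) F} (hg : g ∈ Cfsg.Lie.Sp4 F) (k l : Fin 4) :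
    (g : Matrix (Fin 4) (Fin 4) F) k 0 * (g : Matrix (Fin 4) (Fin 4) F) l 3 +
      (g : Matrix (Fin 4) (Fin 4) F) k 1 * (g : Matrix (Fin 4) (Fin 4) F) l 2 +
      (g : Matrix (Fin 4) (Fin 4) F) k 2 * (g : Matrix (Fin 4) (Fin 4) F) l 1 +
      (g : Matrix (Fin 4) (Fin 4) F) k 3 * (g : Matrix (Fin 4) (Fin 4) F) l 0 =
    if k = Fin.rev l then 1 else 0 := by
  have h' : (g : Matrix (Fin 4) (Fin 4) F) * adjM (g : Matrix (Fin 4) (Fin 4) F) = 1 :=
    mul_eq_one_comm.1 (adjM_mul hg)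
  have h := Matrix.ext_iff.2 h' k (Fin.rev l)
  rw [Matrix.mul_apply, Fin.sum_univ_four, Matrix.one_apply] at h
  simp only [adjM, Matrix.of_apply, Fin.rev_rev] at h
  rw [show Fin.rev (0 : Fin 4) = 3 from rfl, show Fin.rev (1 : Fin 4) = 2 from rfl,
    show Fin.rev (2 : Fin 4) = 1 from rfl, show Fin.rev (3 : Fin 4) = 0 from rfl] at h
  exact h

variable [CharP F 2]

theorem det_eq_one {g : GL (Fin 4) F} (hg : g ∈ Cfsg.Lie.Sp4 F) :
    (g : Matrix (Fin 4) (Fin 4) F).det = 1 := by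
  have h := congrArg Matrix.det (adjM_mul hg)
  rw [Matrix.det_mul, Matrix.det_one] at h
  have hM : (adjM (g : Matrix (Fin 4) (Fin 4) F)).det = (g : Matrix (Fin 4) (Fin 4) F).det := by
    rw [← Matrix.det_transpose (g : Matrix (Fin 4) (Fin 4) F),
      ← Matrix.det_submatrix_equiv_self Fin.revPerm (g : Matrix (Fin 4) (Fin 4) F)ᵀ]
    rfl
  rw [hM] at h
  have : ((g : Matrix (Fin 4) (Fin 4) F).det - 1) ^ 2 = 0 := by
    rw [sub_sq, pow_two, h, CharTwo.two_eq_zero]; ring_nf; exact CharTwo.two_eq_zero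
  exact sub_eq_zero.1 (eq_zero_of_pow_eq_zero this)

theorem adjugate_trace {g : GL (Fin 4) F} (hg : g ∈ Cfsg.Lie.Sp4 F) :
    (g : Matrix (Fin 4) (Fin 4) F).adjugate.trace = (g : Matrix (Fin 4) (Fin 4) F).trace := by
  have h : (g : Matrix (Fin 4) (Fin 4) F).adjugate = adjM (g : Matrix (Fin 4) (Fin 4) F) := by
    calc (g : Matrix (Fin 4) (Fin 4) F).adjugate
        = (adjM (g : Matrix (Fin 4) (Fin 4) F) * (g : Matrix (Fin 4) (Fin 4) F)) *
            (g : Matrix (Fin 4) (Fin 4) F).adjugate := by rw [adjM_mul hg, one_mul]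
      _ = adjM (g : Matrix (Fin 4) (Fin 4) F) := by
          rw [mul_assoc, Matrix.mul_adjugate, det_eq_one hg, one_smul, mul_one]
  rw [h]
  simp only [Matrix.trace, Matrix.diag, adjM, Matrix.of_apply]
  exact Equiv.sum_comp Fin.revPerm (fun i => (g : Matrix (Fin 4) (Fin 4) F) i i)

theorem minor_mul {g h : GL (Fin 4) F} (hg : g ∈ Cfsg.Lie.Sp4 F) (hh : h ∈ Cfsg.Lie.Sp4 F) {k l i j : Fin 4}
    (hkl : k ≠ Fin.rev l) (hij : j ≠ Fin.rev i) :
    minor ((g : Matrix (Fin 4) (Fin 4) F) * (h : Matrix (Fin 4) (Fin 4) F)) k l i j =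
      minor (g : Matrix (Fin 4) (Fin 4) F) k l 0 1 * minor (h : Matrix (Fin 4) (Fin 4) F) 0 1 i j +
      minor (g : Matrix (Fin 4) (Fin 4) F) k l 0 2 * minor (h : Matrix (Fin 4) (Fin 4) F) 0 2 i j +
      minor (g : Matrix (Fin 4) (Fin 4) F) k l 1 3 * minor (h : Matrix (Fin 4) (Fin 4) F) 1 3 i j +
      minor (g : Matrix (Fin 4) (Fin 4) F) k l 2 3 * minor (h : Matrix (Fin 4) (Fin 4) F) 2 3 i j := by
  have hr := row_eq hg k l
  have hc := col_eq hh i j
  rw [if_neg hkl] at hr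
  rw [if_neg hij] at hc
  have h2 : (2 : F) = 0 := CharTwo.two_eq_zero
  generalize (g : Matrix (Fin 4) (Fin 4) F) = a at hr ⊢
  generalize (h : Matrix (Fin 4) (Fin 4) F) = b at hc ⊢
  have x0 : minor a k l 0 3 + minor a k l 1 2 = 0 := by
    simp only [minor]
    linear_combination hr - (a k 3 * a l 0 + a k 2 * a l 1) * h2
  have y0 : minor b 0 3 i j + minor b 1 2 i j = 0 := by
    simp only [minor]
    linear_combination hc - (b 2 i * b 1 j + b 3 i * b 0 j) * h2
  have six : minor (a * b) k l i j =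
      minor a k l 0 1 * minor b 0 1 i j + minor a k l 0 2 * minor b 0 2 i j +
      minor a k l 1 3 * minor b 1 3 i j + minor a k l 2 3 * minor b 2 3 i j +
      minor a k l 0 3 * minor b 0 3 i j + minor a k l 1 2 * minor b 1 2 i j := by
    simp only [minor, Matrix.mul_apply, Fin.sum_univ_four]
    ring
  linear_combination six + (minor b 0 3 i j) * x0 + (minor a k l 1 2) * y0 -
    (minor a k l 1 2 * minor b 0 3 i j) * h2

theorem star4_mul {g h : GL (Fin 4) F} (hg : g ∈ Cfsg.Lie.Sp4 F) (hh : h ∈ Cfsg.Lie.Sp4 F) :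
    Cfsg.Lie.star4 ((g : Matrix (Fin 4) (Fin 4) F) * (h : Matrix (Fin 4) (Fin 4) F)) =
      Cfsg.Lie.star4 (g : Matrix (Fin 4) (Fin 4) F) * Cfsg.Lie.star4 (h : Matrix (Fin 4) (Fin 4) F) := by
  ext p r
  have hp : (Cfsg.Lie.pairOf p).1 ≠ Fin.rev (Cfsg.Lie.pairOf p).2 := by revert p; decide
  have hr : (Cfsg.Lie.pairOf r).2 ≠ Fin.rev (Cfsg.Lie.pairOf r).1 := by revert r; decide
  rw [star4_apply, minor_mul hg hh hp hr, Matrix.mul_apply, Fin.sum_univ_four]
  rfl

theorem star4_trace {g : GL (Fin 4) F} (hg : g ∈ Cfsg.Lie.Sp4 F) :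
    (Cfsg.Lie.star4 (g : Matrix (Fin 4) (Fin 4) F)).trace = e2 (g : Matrix (Fin 4) (Fin 4) F) := by
  have hc := col_eq hg 0 3
  have hr := row_eq hg 1 2
  rw [if_pos (by decide)] at hc
  rw [if_pos (by decide)] at hr
  have h2 : (2 : F) = 0 := CharTwo.two_eq_zero
  generalize (g : Matrix (Fin 4) (Fin 4) F) = a at hr hc ⊢
  rw [Matrix.trace, Fin.sum_univ_four]
  simp only [Matrix.diag, star4_apply]
  show minor a 0 1 0 1 + minor a 0 2 0 2 + minor a 1 3 1 3 + minor a 2 3 2 3 = e2 a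
  simp only [e2, minor]
  linear_combination -hc - hr + (a 1 0 * a 2 3 + a 2 0 * a 1 3 + a 3 0 * a 0 3 + a 2 1 * a 1 2 - 1) * h2

variable [Finite F]

/-- Every element of the Suzuki group satisfies the defining equation. -/
theorem mem_Sz (n : ℕ) {g : GL (Fin 4) F} (hg : g ∈ Cfsg.Lie.Sz F (2 ^ n)) :
    g ∈ Cfsg.Lie.Sp4 F ∧
      Cfsg.Lie.star4 (g : Matrix (Fin 4) (Fin 4) F) = (g : Matrix (Fin 4) (Fin 4) F).map (fun x => x ^ 2 ^ n) := by
  let θ : F →+* F := iterateFrobenius F 2 n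
  have hθ : (fun x : F => x ^ 2 ^ n) = θ := by
    funext x; simp [θ, iterateFrobenius_def]
  have hone : (1 : GL (Fin 4) F) ∈ Cfsg.Lie.Sp4 F ∧
      Cfsg.Lie.star4 ((1 : GL (Fin 4) F) : Matrix (Fin 4) (Fin 4) F) =
        ((1 : GL (Fin 4) F) : Matrix (Fin 4) (Fin 4) F).map (fun x => x ^ 2 ^ n) := by
    refine ⟨Subgroup.one_mem _, ?_⟩
    rw [Units.val_one, hθ, Matrix.map_one _ θ.map_zero θ.map_one]
    ext p r
    fin_cases p <;> fin_cases r <;> simp [star4_apply, minor, Cfsg.Lie.pairOf, Matrix.one_apply]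
  have hmul : ∀ a b : GL (Fin 4) F,
      (a ∈ Cfsg.Lie.Sp4 F ∧
        Cfsg.Lie.star4 (a : Matrix (Fin 4) (Fin 4) F) = (a : Matrix (Fin 4) (Fin 4) F).map (fun x => x ^ 2 ^ n)) →
      (b ∈ Cfsg.Lie.Sp4 F ∧
        Cfsg.Lie.star4 (b : Matrix (Fin 4) (Fin 4) F) = (b : Matrix (Fin 4) (Fin 4) F).map (fun x => x ^ 2 ^ n)) →
      (a * b ∈ Cfsg.Lie.Sp4 F ∧
        Cfsg.Lie.star4 ((a * b : GL (Fin 4) F) : Matrix (Fin 4) (Fin 4) F) =
          ((a * b : GL (Fin 4) F) : Matrix (Fin 4) (Fin 4) F).map (fun x => x ^ 2 ^ n)) := by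
    intro a b ha hb
    refine ⟨Subgroup.mul_mem _ ha.1 hb.1, ?_⟩
    rw [Units.val_mul, star4_mul ha.1 hb.1, ha.2, hb.2, hθ, Matrix.map_mul]
  induction hg using Subgroup.closure_induction with
  | mem x hx => exact hx
  | one => exact hone
  | mul a b _ _ ha hb => exact hmul a b ha hb
  | inv a _ ha =>
    have hpow : ∀ k : ℕ, a ^ k ∈ Cfsg.Lie.Sp4 F ∧
        Cfsg.Lie.star4 ((a ^ k : GL (Fin 4) F) : Matrix (Fin 4) (Fin 4) F) =
          ((a ^ k : GL (Fin 4) F) : Matrix (Fin 4) (Fin 4) F).map (fun x => x ^ 2 ^ n) := by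
      intro k
      induction k with
      | zero => rw [pow_zero]; exact hone
      | succ k ih => rw [pow_succ]; exact hmul _ _ ih ha
    have : a⁻¹ = a ^ (orderOf a - 1) := by
      rw [inv_eq_iff_mul_eq_one, ← pow_succ', Nat.sub_add_cancel (orderOf_pos a), pow_orderOf_eq_one]
    rw [this]; exact hpow _

/-- An element of the Suzuki group fixing a non-zero vector satisfies `g ^ 4 = 1`. -/
theorem pow_four_of_fixed (n : ℕ) {g : GL (Fin 4) F} (hg : g ∈ Cfsg.Lie.Sz F (2 ^ n)) {v : Fin 4 → F}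
    (hv : v ≠ 0) (hfix : (g : Matrix (Fin 4) (Fin 4) F) *ᵥ v = v) : g ^ 4 = 1 := by
  obtain ⟨hSp, hstar⟩ := mem_Sz n hg
  set A := (g : Matrix (Fin 4) (Fin 4) F) with hA
  have h2 : (2 : F) = 0 := CharTwo.two_eq_zero
  have hdet : ((1 : F) • (1 : Matrix (Fin 4) (Fin 4) F) + A).det = 0 := by
    refine Matrix.exists_mulVec_eq_zero_iff.1 ⟨v, hv, ?_⟩
    rw [Matrix.add_mulVec, one_smul, Matrix.one_mulVec, hfix, CharTwo.add_self_eq_zero]
  rw [det_smul_one_add, hA, adjugate_trace hSp, det_eq_one hSp, ← hA] at hdet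
  have he : e2 A = 0 := by linear_combination hdet - (1 + A.trace) * h2
  have ht : A.trace = 0 := by
    have h := star4_trace hSp
    rw [hstar, ← hA, he] at h
    have hθ : (A.map (fun x => x ^ 2 ^ n)).trace = A.trace ^ 2 ^ n := by
      rw [Matrix.trace, Matrix.trace, sum_pow_char_pow]
      rfl
    rw [hθ] at h
    exact eq_zero_of_pow_eq_zero h
  have hchar : A.charpoly = X ^ 4 + 1 := by
    have hX : A.charmatrix = (X : F[X]) • (1 : Matrix (Fin 4) (Fin 4) F[X]) + A.map C := by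
      ext i j
      rw [Matrix.charmatrix_apply, Matrix.diagonal_apply, Matrix.add_apply, Matrix.smul_apply, Matrix.one_apply,
        Matrix.map_apply, smul_eq_mul, mul_ite, mul_one, mul_zero, CharTwo.sub_eq_add]
    rw [Matrix.charpoly, hX, det_smul_one_add]
    have h1 : (A.map C).trace = C A.trace := (AddMonoidHom.map_trace (C : F →+* F[X]) _).symm
    have h3 : (A.map C).adjugate.trace = C A.adjugate.trace := by
      have := RingHom.map_adjugate (C : F →+* F[X]) A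
      rw [RingHom.mapMatrix_apply, RingHom.mapMatrix_apply] at this
      rw [← this]; exact (AddMonoidHom.map_trace (C : F →+* F[X]) _).symm
    have h4 : (A.map C).det = C A.det := ((C : F →+* F[X]).map_det A).symm
    have h5 : e2 (A.map C) = C (e2 A) := by simp [e2, minor]
    rw [h1, h3, h4, h5, hA, adjugate_trace hSp, det_eq_one hSp, ← hA, ht, he]
    simp
  have hCH := Matrix.aeval_self_charpoly A
  rw [hchar, map_add, map_pow, aeval_X, map_one] at hCH
  apply Units.ext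
  rw [Units.val_pow_eq_pow_val, Units.val_one, ← hA, eq_neg_of_add_eq_zero_left hCH]
  ext i j
  rw [Matrix.neg_apply, CharTwo.neg_eq]

end Sp

end Cfsg.Agent.Lib.SzNatural
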